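import Mathlib
import Cfsg.Agent.H498.LinDerived
set_option linter.all false

/-!
# Derived length of `p`-subgroups of `GL_n(q)`, `p` not dividing `q`

`simple_case`: a finite `p`-group acting on a simple module `U` of dimension at most `n` over a field with `q`
elements, `e` the order of `q` modulo `p`: the term `⌊log₂ (n / e)⌋ + 1` of the derived series acts trivially.
The endomorphism field `K` of `U` has `q ^ d` elements with `e ∣ d` unless the action is trivial, and
`dim_K U = dim U / d`.
-/

set_option autoImplicit false

namespace Cfsg.Agent.H587.CrossDl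

open Module

section Basic

variable {F P U : Type*} [Field F] [Group P] [AddCommGroup U] [Module (MonoidAlgebra F P) U]

/-- The action of a group element. -/
noncomputable def act (F : Type*) {P U : Type*} [Field F] [Group P] [AddCommGroup U]
    [Module (MonoidAlgebra F P) U] (g : P) (u : U) : U := (MonoidAlgebra.of F P g) • u

theorem act_mul (g h : P) (u : U) : act F (g * h) u = act F g (act F h u) := by
  unfold act
  rw [map_mul, mul_smul]

theorem act_one (u : U) : act F (1 : P) u = u := by
  unfold act
  rw [map_one, one_smul]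

/-- The kernel of the action. -/
noncomputable def ker (F : Type*) (P U : Type*) [Field F] [Group P] [AddCommGroup U]
    [Module (MonoidAlgebra F P) U] : Subgroup P where
  carrier := {g | ∀ u : U, act F g u = u}
  one_mem' := act_one
  mul_mem' := by
    intro a b ha hb u
    rw [act_mul, hb, ha]
  inv_mem' := by
    intro a ha u
    have h1 : act F (a⁻¹ * a) u = act F a⁻¹ (act F a u) := act_mul _ _ _
    rw [inv_mul_cancel, act_one, ha] at h1
    exact h1.symm

theorem mem_ker {g : P} : g ∈ ker F P U ↔ ∀ u : U, act F g u = u := Iff.rfl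

theorem ker_normal : (ker F P U).Normal := by
  constructor
  intro n hn g
  rw [mem_ker] at hn ⊢
  intro u
  rw [act_mul, act_mul, hn, ← act_mul, mul_inv_cancel, act_one]

/-- An additive map commuting with scalars and with `P` is linear over the group algebra. -/
theorem smul_of [Module F U] [IsScalarTower F (MonoidAlgebra F P) U]
    {f : U → U} (hadd : ∀ u v, f (u + v) = f u + f v) (hsm : ∀ (c : F) u, f (c • u) = c • f u)
    (hg : ∀ (g : P) u, f (act F g u) = act F g (f u)) (a : MonoidAlgebra F P) (u : U) :
    f (a • u) = a • f u := by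
  induction a using MonoidAlgebra.induction_on with
  | of g => exact hg g u
  | add a b ha hb => rw [add_smul, hadd, ha, hb, add_smul]
  | smul c a ha => rw [smul_assoc, hsm, ha, smul_assoc]

end Basic

section Simple

variable {F P U : Type*} [Field F] [Finite F] [Group P] [Finite P] [AddCommGroup U] [Finite U]
  [Module F U] [Module (MonoidAlgebra F P) U] [IsScalarTower F (MonoidAlgebra F P) U]
  [IsSimpleModule (MonoidAlgebra F P) U]

/-- If the action of the `p`-group is not trivial, some endomorphism of `U` has order `p`. -/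
theorem exists_end {p : ℕ} [Fact p.Prime] (hP : IsPGroup p P) (hne : ker F P U ≠ ⊤) :
    ∃ ζ : Module.End (MonoidAlgebra F P) U, ζ ≠ 1 ∧ ζ ^ p = 1 := by
  have := ker_normal (F := F) (P := P) (U := U)
  have hQ : IsPGroup p (P ⧸ ker F P U) := hP.to_quotient _
  have hnt : Nontrivial (P ⧸ ker F P U) := QuotientGroup.nontrivial_iff.mpr hne
  have hz : Nontrivial (Subgroup.center (P ⧸ ker F P U)) := hQ.center_nontrivial
  obtain ⟨z, hz⟩ : ∃ z : Subgroup.center (P ⧸ ker F P U), orderOf z = p := by
    apply exists_prime_orderOf_dvd_card'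
    have h1 : IsPGroup p (Subgroup.center (P ⧸ ker F P U)) := hQ.to_subgroup _
    obtain ⟨n, hn⟩ := IsPGroup.iff_card.mp h1
    rw [hn]
    apply dvd_pow_self
    rintro rfl
    rw [pow_zero] at hn
    have := Finite.one_lt_card (α := Subgroup.center (P ⧸ ker F P U))
    omega
  obtain ⟨w, hw⟩ := QuotientGroup.mk_surjective (z : P ⧸ ker F P U)
  have hcomm : ∀ (g : P) (u : U), act F w (act F g u) = act F g (act F w u) := by
    intro g u
    have h1 := Subgroup.mem_center_iff.mp z.2 (g : P ⧸ ker F P U)
    rw [← hw, ← QuotientGroup.mk_mul, ← QuotientGroup.mk_mul, QuotientGroup.eq] at h1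
    have h2 := (mem_ker (F := F)).mp h1 u
    have h3 : act F (g * w) u = act F (g * w) (act F ((g * w)⁻¹ * (w * g)) u) := by rw [h2]
    rw [← act_mul, mul_inv_cancel_left] at h3
    rw [← act_mul, ← act_mul, h3]
  have hpow : ∀ u : U, act F (w ^ p) u = u := by
    have h1 : (w : P ⧸ ker F P U) ^ p = 1 := by
      rw [hw]
      have := congrArg Subtype.val (pow_orderOf_eq_one z)
      rw [hz] at this
      exact this
    rw [← QuotientGroup.mk_pow, QuotientGroup.eq_one_iff] at h1
    exact h1
  have hsm : ∀ (c : F) (u : U), act F w (c • u) = c • act F w u := by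
    intro c u
    unfold act
    have : (c • u : U) = (c • (1 : MonoidAlgebra F P)) • u := by rw [smul_assoc, one_smul]
    rw [this, ← mul_smul, mul_smul_comm, mul_one, smul_assoc]
  let ζ : Module.End (MonoidAlgebra F P) U :=
    { toFun := act F w
      map_add' := fun u v => smul_add _ u v
      map_smul' := fun a u => smul_of (fun u v => smul_add _ u v) hsm hcomm a u }
  have hζ : ∀ (n : ℕ) (u : U), (ζ ^ n) u = act F (w ^ n) u := by
    intro n
    induction n with
    | zero => intro u; rw [pow_zero, pow_zero, act_one]; rfl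
    | succ n ih =>
      intro u
      rw [pow_succ, pow_succ, act_mul, Module.End.mul_apply, ih]
      rfl
  refine ⟨ζ, ?_, ?_⟩
  · intro h
    have h1 : w ∈ ker F P U := by
      rw [mem_ker]
      intro u
      exact LinearMap.congr_fun h u
    have h2 : (z : P ⧸ ker F P U) = 1 := by
      rw [← hw]
      exact (QuotientGroup.eq_one_iff w).mpr h1
    have h3 : z = 1 := Subtype.ext h2
    rw [h3, orderOf_one] at hz
    exact (Fact.out : p.Prime).one_lt.ne hz
  · ext u
    rw [hζ, hpow]
    rfl

/-- A representation of a `p`-group over any field. -/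
theorem rep_any {K P U : Type*} [Field K] [Group P] [Finite P] [AddCommGroup U] [Module K U]
    [FiniteDimensional K U] {p : ℕ} [Fact p.Prime] (hP : IsPGroup p P) (ρ : Representation K P U)
    (g : P) (hg : g ∈ derivedSeries P (Nat.log 2 (finrank K U) + 1)) : ρ g = 1 := by
  let b := Module.finBasis K U
  let f : P →* Matrix (Fin (finrank K U)) (Fin (finrank K U)) K :=
    ((LinearMap.toMatrixAlgEquiv b : (U →ₗ[K] U) ≃ₐ[K] _) : (U →ₗ[K] U) →* _).comp ρ
  let σ : P →* Matrix.GeneralLinearGroup (Fin (finrank K U)) K := f.toHomUnits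
  have h1 : IsPGroup p σ.range := hP.of_surjective _ σ.rangeRestrict_surjective
  have hfin : Finite σ.range := Finite.of_surjective _ σ.rangeRestrict_surjective
  have h2 := Cfsg.Agent.H498.LinDerived.derivedSeries_pgroup_GL h1 (finrank K U) σ.range.subtype
    (Subgroup.subtype_injective _)
  have h3 := map_derivedSeries_le_derivedSeries σ.rangeRestrict (Nat.log 2 (finrank K U) + 1)
    (Subgroup.mem_map_of_mem _ hg)
  rw [h2, Subgroup.mem_bot] at h3
  have h4 : σ g = 1 := congrArg Subtype.val h3
  have h5 : f g = 1 := by
    have := congrArg Units.val h4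
    simpa [σ] using this
  have h6 : LinearMap.toMatrixAlgEquiv b (ρ g) = LinearMap.toMatrixAlgEquiv b 1 := by
    rw [map_one]; exact h5
  exact (LinearMap.toMatrixAlgEquiv b).injective h6

theorem simple_case {p : ℕ} [hp : Fact p.Prime] (hP : IsPGroup p P) {q : ℕ} (hq : Nat.card F = q)
    {n e : ℕ} (he : e = orderOf (q : ZMod p)) (hn : finrank F U ≤ n) (g : P)
    (hg : g ∈ derivedSeries P (Nat.log 2 (n / e) + 1)) (u : U) : act F g u = u := by
  classical
  by_cases htriv : ker F P U = ⊤
  · have : g ∈ ker F P U := by rw [htriv]; trivial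
    exact this u
  obtain ⟨ζ, hζ1, hζp⟩ := exists_end (F := F) (P := P) (U := U) hP htriv
  have hKfin : Finite (Module.End (MonoidAlgebra F P) U) :=
    Finite.of_injective (fun f => (f : U → U)) DFunLike.coe_injective
  let hKfield : Field (Module.End (MonoidAlgebra F P) U) := littleWedderburn _
  have hUF : Module.Finite F U := Module.Finite.of_finite
  have hKF : Module.Finite F (Module.End (MonoidAlgebra F P) U) := Module.Finite.of_finite
  have hUK : Module.Finite (Module.End (MonoidAlgebra F P) U) U := Module.Finite.of_finite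
  set d := finrank F (Module.End (MonoidAlgebra F P) U) with hd
  set m := finrank (Module.End (MonoidAlgebra F P) U) U with hm
  have hcK : Nat.card (Module.End (MonoidAlgebra F P) U) = q ^ d := by
    have := Fintype.ofFinite F
    have := Fintype.ofFinite (Module.End (MonoidAlgebra F P) U)
    rw [← hq, Nat.card_eq_fintype_card, Nat.card_eq_fintype_card]
    exact Module.card_eq_pow_finrank
  have hcU : Nat.card U = q ^ finrank F U := by
    have := Fintype.ofFinite F
    have := Fintype.ofFinite U
    rw [← hq, Nat.card_eq_fintype_card, Nat.card_eq_fintype_card]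
    exact Module.card_eq_pow_finrank
  have hcU' : Nat.card U = (q ^ d) ^ m := by
    have := Fintype.ofFinite (Module.End (MonoidAlgebra F P) U)
    have := Fintype.ofFinite U
    rw [← hcK, Nat.card_eq_fintype_card, Nat.card_eq_fintype_card]
    exact Module.card_eq_pow_finrank
  have hq1 : 1 < q := by rw [← hq]; exact Finite.one_lt_card
  have hdm : d * m = finrank F U := by
    rw [hcU, ← pow_mul] at hcU'
    exact (Nat.pow_right_injective hq1 hcU').symm
  have hed : e ∣ d := by
    have hz0 : ζ ≠ 0 := by
      rintro rfl
      rw [zero_pow hp.out.ne_zero] at hζp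
      exact zero_ne_one hζp
    have h1 : orderOf (Units.mk0 ζ hz0) = p := by
      apply orderOf_eq_prime
      · apply Units.ext
        exact hζp
      · intro h
        exact hζ1 (congrArg Units.val h)
    have h2 : p ∣ Nat.card (Module.End (MonoidAlgebra F P) U)ˣ := by
      rw [← h1]; exact orderOf_dvd_natCard _
    rw [Nat.card_units, hcK] at h2
    rw [he]
    apply orderOf_dvd_of_pow_eq_one
    have h3 : 1 ≤ q ^ d := Nat.one_le_pow _ _ (by omega)
    have h4 : ((q ^ d - 1 : ℕ) : ZMod p) = 0 := (ZMod.natCast_eq_zero_iff _ _).mpr h2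
    rw [Nat.cast_sub h3, Nat.cast_pow, Nat.cast_one, sub_eq_zero] at h4
    exact h4
  have hd0 : 0 < d := Module.finrank_pos
  have he0 : 0 < e := Nat.pos_of_dvd_of_pos hed hd0
  have hmle : m ≤ n / e := by
    rw [Nat.le_div_iff_mul_le he0]
    calc m * e ≤ m * d := Nat.mul_le_mul_left _ (Nat.le_of_dvd hd0 hed)
      _ = finrank F U := by rw [mul_comm, hdm]
      _ ≤ n := hn
  let ρ : Representation (Module.End (MonoidAlgebra F P) U) P U :=
    { toFun := fun g =>
        { toFun := act F g
          map_add' := fun u v => smul_add _ u v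
          map_smul' := fun k u => by
            show (MonoidAlgebra.of F P g) • (k u) = k ((MonoidAlgebra.of F P g) • u)
            rw [map_smul] }
      map_one' := by
        ext u; exact act_one u
      map_mul' := by
        intro a b
        ext u; exact act_mul a b u }
  have h5 := rep_any hP ρ g (derivedSeries_antitone P
    (Nat.add_le_add_right (Nat.log_mono_right hmle) 1) hg)
  exact LinearMap.congr_fun h5 u

end Simple

/-- A `p`-group acting on a space of dimension at most `n` over a field with `q` elements. -/
theorem rep_case {F P V : Type*} [Field F] [Finite F] [Group P] [Finite P] [AddCommGroup V]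
    [Module F V] [Finite V] {p : ℕ} [hp : Fact p.Prime] (hP : IsPGroup p P) {q : ℕ}
    (hq : Nat.card F = q) (hpq : ¬ p ∣ q)
    {n e : ℕ} (he : e = orderOf (q : ZMod p)) (hn : finrank F V ≤ n) (ρ : Representation F P V)
    (g : P) (hg : g ∈ derivedSeries P (Nat.log 2 (n / e) + 1)) (v : V) : ρ g v = v := by
  have hVfin : Finite ρ.asModule := inferInstanceAs (Finite V)
  have hne : NeZero (Nat.card P : F) := by
    constructor
    obtain ⟨k, hk⟩ := IsPGroup.iff_card.mp hP
    rw [hk]
    intro h
    rw [Nat.cast_pow] at h
    have h0 : (p : F) = 0 := eq_zero_of_pow_eq_zero h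
    obtain ⟨r, hr⟩ := CharP.exists F
    have hrp : r ∣ p := (CharP.cast_eq_zero_iff F r p).mp h0
    have := Fintype.ofFinite F
    have h1 : (q : F) = 0 := by
      rw [← hq, Nat.card_eq_fintype_card]
      exact FiniteField.cast_card_eq_zero F
    have hrq : r ∣ q := (CharP.cast_eq_zero_iff F r q).mp h1
    rcases (Nat.dvd_prime hp.out).mp hrp with h2 | h2
    · exact CharP.char_ne_one F r h2
    · exact hpq (h2 ▸ hrq)
  have hss : IsSemisimpleModule (MonoidAlgebra F P) ρ.asModule := inferInstance
  have htop := IsSemisimpleModule.sSup_simples_eq_top (MonoidAlgebra F P) ρ.asModule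
  have hv : (ρ.asModuleEquiv.symm v) ∈ sSup {m : Submodule (MonoidAlgebra F P) ρ.asModule |
      IsSimpleModule (MonoidAlgebra F P) m} := by
    rw [htop]; trivial
  have key : ∀ w ∈ sSup {m : Submodule (MonoidAlgebra F P) ρ.asModule |
      IsSimpleModule (MonoidAlgebra F P) m}, act F g w = w := by
    intro w hw
    rw [sSup_eq_iSup'] at hw
    induction hw using Submodule.iSup_induction' with
    | mem U x hx =>
      have hU : IsSimpleModule (MonoidAlgebra F P) U := U.2
      have h1 : finrank F U.1 ≤ n := by
        refine le_trans ?_ hn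
        have : finrank F (U.1.restrictScalars F) ≤ finrank F ρ.asModule := Submodule.finrank_le _
        exact this
      have := simple_case (F := F) (P := P) (U := U.1) hP hq he h1 g hg ⟨x, hx⟩
      exact congrArg Subtype.val this
    | zero => exact smul_zero _
    | add x y _ _ hx hy =>
      have : act F g (x + y) = act F g x + act F g y := smul_add _ _ _
      rw [this, hx, hy]
  have h1 := key _ hv
  unfold act at h1
  rw [← Representation.asModuleEquiv_symm_map_rho] at h1
  exact ρ.asModuleEquiv.symm.injective h1

/-- A finite `p`-subgroup of `GL_n(q)`. -/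
theorem gl_case {F : Type*} [Field F] [Finite F] {q : ℕ} (hq : Nat.card F = q) {p : ℕ} [Fact p.Prime]
    (hpq : ¬ p ∣ q) {n e : ℕ} (he : e = orderOf (q : ZMod p)) (P : Subgroup (GL (Fin n) F))
    (hP : IsPGroup p P) : derivedSeries P (Nat.log 2 (n / e) + 1) = ⊥ := by
  let ρ : Representation F P (Fin n → F) :=
    ((Matrix.toLinAlgEquiv' : Matrix (Fin n) (Fin n) F ≃ₐ[F] _) : Matrix (Fin n) (Fin n) F →* _).comp
      ((Units.coeHom _).comp P.subtype)
  rw [eq_bot_iff]
  intro g hg
  rw [Subgroup.mem_bot]
  have h1 : ρ g = 1 := by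
    apply LinearMap.ext
    intro v
    exact rep_case hP hq hpq he (Module.finrank_fin_fun F).le ρ g hg v
  have h2 : Matrix.toLinAlgEquiv' ((g : GL (Fin n) F) : Matrix (Fin n) (Fin n) F) =
      Matrix.toLinAlgEquiv' (1 : Matrix (Fin n) (Fin n) F) := by
    rw [map_one]; exact h1
  exact Subtype.ext (Units.ext (Matrix.toLinAlgEquiv'.injective h2))

end Cfsg.Agent.H587.CrossDl
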